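import Cfsg.Agent.H613.KKL.Defs
import Cfsg.Agent.S2106
import Cfsg.Prelude.Def_CaseTheorems

/-!
# S4546, F_E7 (helper417)

* `center_eq_bot` : a finite quasisimple group `K` with `K / Z(K) ≅ S` and centre of order prime to `n` is simple if the Schur
  multiplier of `S` is cyclic of order `n`;
* `F_E7_of` : `F_E7` from A5, A7' and E_E7.
-/

set_option autoImplicit false

open Cfsg Cfsg.Agent.H613.KKL

universe u

namespace Cfsg.Agent.H417.KKL

/-- universe 0 -/
theorem center_bot_zero {K S : Type} [Group K] [Finite K] [Group S] (hK : IsQuasisimple K) {n : ℕ}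
    (hS : HasCyclicSchurMultiplier S n) (hn : (Nat.card (Subgroup.center K)).Coprime n)
    (e : K ⧸ Subgroup.center K ≃* S) : Subgroup.center K = ⊥ := by
  let σ : K →* S := e.toMonoidHom.comp (QuotientGroup.mk' (Subgroup.center K))
  have hker : σ.ker = Subgroup.center K := by
    ext x
    rw [MonoidHom.mem_ker]
    change e (QuotientGroup.mk' (Subgroup.center K) x) = 1 ↔ _
    rw [map_eq_one_iff e e.injective, ← MonoidHom.mem_ker, QuotientGroup.ker_mk']
  have hσ : IsStemExtension σ := by
    refine ⟨e.surjective.comp (QuotientGroup.mk'_surjective _), hker.le, ?_⟩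
    have := hK.1
    rw [Group.IsPerfect.commutator_eq_top (G := K)]
    exact le_top
  obtain ⟨π, hπ⟩ := hS.2 K σ hσ
  have h1 : Nat.card (Subgroup.center K) ∣ n := by
    rw [← hker]
    have h2 := Subgroup.card_dvd_of_surjective π hπ
    have h3 : Nat.card (Multiplicative (ZMod n)) = n := (Nat.card_congr Multiplicative.toAdd).trans (Nat.card_zmod n)
    rwa [h3] at h2
  exact Subgroup.eq_bot_of_card_eq _ (Nat.eq_one_of_dvd_coprimes hn.symm h1 dvd_rfl)

/-- any universe -/
theorem center_bot {K : Type u} [Group K] [Finite K] (hK : IsQuasisimple K) {S : Type} [Group S] {n : ℕ}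
    (hS : HasCyclicSchurMultiplier S n) (hn : (Nat.card (Subgroup.center K)).Coprime n)
    (e : K ⧸ Subgroup.center K ≃* S) : Subgroup.center K = ⊥ := by
  let f : K ≃* Shrink.{0} K := Shrink.mulEquiv.symm
  have hc : (Subgroup.center K).map f.toMonoidHom = Subgroup.center (Shrink.{0} K) := by
    ext x
    constructor
    · rintro ⟨y, hy, rfl⟩
      rw [Subgroup.mem_center_iff]
      intro z
      obtain ⟨z, rfl⟩ := f.surjective z
      change f z * f y = f y * f z
      rw [← map_mul, ← map_mul, Subgroup.mem_center_iff.1 hy z]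
    · intro hx
      obtain ⟨x, rfl⟩ := f.surjective x
      refine ⟨x, Subgroup.mem_center_iff.2 fun z => f.injective ?_, rfl⟩
      rw [map_mul, map_mul]
      exact Subgroup.mem_center_iff.1 hx (f z)
  let g : K ⧸ Subgroup.center K ≃* Shrink.{0} K ⧸ Subgroup.center (Shrink.{0} K) :=
    QuotientGroup.congr _ _ f hc
  have hK' : IsQuasisimple (Shrink.{0} K) := by
    refine ⟨?_, ?_⟩
    · have := hK.1
      exact Group.IsPerfect.ofSurjective (f := f.toMonoidHom) f.surjective
    · have := hK.2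
      exact g.symm.isSimpleGroup
  have hcard : Nat.card (Subgroup.center (Shrink.{0} K)) = Nat.card (Subgroup.center K) := by
    rw [← hc]
    exact Subgroup.card_map_of_injective f.injective
  have h := center_bot_zero (K := Shrink.{0} K) hK' hS (hcard ▸ hn) (g.symm.trans e)
  rw [h, Subgroup.card_bot] at hcard
  exact Subgroup.eq_bot_of_card_eq _ hcard.symm

/-- the statement A5, universe 0 -/
def A5St : Prop :=
  ∀ {G : Type} [Group G] [Finite G] {M : Ideal AlgInt} (_ : IsPModular 2 M) {B : Set (IrrCharacter G)}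
    (_ : IsPBlock M B) {D : Subgroup G} (_ : IsDefectGroup 2 M B D) (_ : E8 D) {χ : IrrCharacter G} (_ : χ ∈ B)
    (_ : blockHeight 2 B (χ : G → ℂ) ≠ 0),
    ∃ (x : G) (θ : IrrCharacter ↥(Subgroup.centralizer (D : Set G))), CfgB D x θ

/-- the statement A7' -/
def A7St : Prop := ∀ {S : Type u} {S' : Type} [Group S] [Group S'] [Finite S] [Finite S'] (_ : S ≃* S') (_ : HZ S'), HZ S

/-- the statement E_E7 -/
def E7St : Prop :=
  ∀ {F : Type} [Field F] [Fintype F] {p : ℕ} [Fact p.Prime] [CharP F p] (_ : p ≠ 2) (D : Subgroup ↥(Lie.chevE7.group F))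
    (x : ↥(Lie.chevE7.group F)) (θ : IrrCharacter ↥(Subgroup.centralizer (D : Set ↥(Lie.chevE7.group F)))), ¬ CfgB D x θ

/-- **F_E7** -/
theorem F_E7_of (hA5 : A5St) (hA7 : A7St.{u}) (hE7 : E7St) {K : Type u} [Group K] [Finite K] (hK : IsQuasisimple K)
    (hZ : Odd (Nat.card ↥(Subgroup.center K))) {F : Type} [Field F] [Fintype F] {p : ℕ} [Fact p.Prime] [CharP F p] (hp : p ≠ 2)
    (h : Nonempty (K ⧸ Subgroup.center K ≃* ↥(Lie.chevE7.group F))) : HZ K := by
  obtain ⟨e⟩ := h
  have h1 : Subgroup.center K = ⊥ := by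
    refine center_bot hK (Cfsg.Agent.S2106.result (F := F) rfl) ?_ e
    exact Nat.Coprime.coprime_dvd_right (Nat.gcd_dvd_left _ _) (Nat.coprime_two_right.2 hZ)
  let g : K ≃* K ⧸ Subgroup.center K :=
    (QuotientGroup.quotientBot.symm).trans (QuotientGroup.quotientMulEquivOfEq h1.symm)
  refine hA7 (g.trans e) ?_
  intro M hM B hB D hD h8 χ hχ
  by_contra hne
  obtain ⟨x, θ, hc⟩ := hA5 hM hB hD h8 hχ hne
  exact hE7 hp D x θ hc

end Cfsg.Agent.H417.KKL
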