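import Cfsg.Agent.H417.KKL.FE7
import Cfsg.Agent.H610.KKL.Final
import Cfsg.Agent.H351.KKL.E7Fin

/-!
# S4546, F_E7 without hypotheses (helper417)
-/

set_option autoImplicit false

open Cfsg Cfsg.Agent.H613.KKL

universe u

namespace Cfsg.Agent.H417.KKL

/-- **F_E7** -/
theorem F_E7 {K : Type u} [Group K] [Finite K] (hK : IsQuasisimple K) (hZ : Odd (Nat.card ↥(Subgroup.center K)))
    {F : Type} [Field F] [Fintype F] {p : ℕ} [Fact p.Prime] [CharP F p] (hp : p ≠ 2)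
    (h : Nonempty (K ⧸ Subgroup.center K ≃* ↥(Lie.chevE7.group F))) : HZ K :=
  F_E7_of (fun hM _ hB _ hD h8 _ hχ hh => Cfsg.Agent.H610.KKL.a5 hM hB hD h8 hχ hh)
    (fun e h => Cfsg.Agent.H610.KKL.A7' e h) (fun hp D x θ => Cfsg.Agent.H351.KKL.E_E7 hp D x θ) hK hZ hp h

end Cfsg.Agent.H417.KKL
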